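import Mathlib

/-!
# Algebras with few generators over a large field
-/

set_option autoImplicit false
set_option linter.style.haveILetI false

universe u

open Cardinal Polynomial

namespace Groth.Agent.BigField

variable {K : Type u} [Field K]

theorem linearIndependent_inv_sub {L : Type u} [Field L] [Algebra K L] {t : L} (ht : Transcendental K t) :
    LinearIndependent K fun a : K => (t - algebraMap K L a)⁻¹ := by
  classical
  rw [linearIndependent_iff']
  intro s c hsum a ha
  have hne : ∀ b : K, t - algebraMap K L b ≠ 0 := fun b h => ht (by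
    refine ⟨X - C b, X_sub_C_ne_zero b, ?_⟩
    simpa using h)
  let P : K[X] := ∑ i ∈ s, C (c i) * ∏ j ∈ s.erase i, (X - C j)
  have hP : aeval t P = 0 := by
    have h1 : aeval t P = (∏ j ∈ s, (t - algebraMap K L j)) * ∑ i ∈ s, c i • (t - algebraMap K L i)⁻¹ := by
      simp only [P, map_sum, map_mul, map_prod, map_sub, aeval_X, aeval_C, Finset.mul_sum]
      refine Finset.sum_congr rfl fun i hi => ?_
      rw [← Finset.mul_prod_erase s _ hi, Algebra.smul_def]
      field_simp [hne i]
    rw [h1, hsum, mul_zero]
  have hP0 : P = 0 := by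
    by_contra h
    exact ht ⟨P, h, hP⟩
  have h2 := congrArg (eval a) hP0
  simp only [P, eval_finsetSum, eval_mul, eval_C, eval_prod, eval_sub, eval_X, eval_zero] at h2
  rw [Finset.sum_eq_single a] at h2
  · refine (mul_eq_zero.1 h2).resolve_right (Finset.prod_ne_zero_iff.2 fun j hj => ?_)
    exact sub_ne_zero.2 (Finset.ne_of_mem_erase hj).symm
  · intro i _ hi
    rw [Finset.prod_eq_zero (Finset.mem_erase.2 ⟨Ne.symm hi, ha⟩) (sub_self a), mul_zero]
  · intro h
    exact absurd ha h

/-- A field quotient of a polynomial ring in few variables over a large field is algebraic. -/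
theorem isAlgebraic_of_surjective {σ : Type u} [Nonempty σ] (hσ : max #σ ℵ₀ < #K) {L : Type u} [Field L]
    [Algebra K L] (g : MvPolynomial σ K →ₐ[K] L) (hg : Function.Surjective g) : Algebra.IsAlgebraic K L := by
  refine ⟨fun t => by_contra fun ht => ?_⟩
  have h1 := (linearIndependent_inv_sub (K := K) (L := L) ht).cardinal_le_rank
  have h2 := g.toLinearMap.rank_le_of_surjective hg
  have h3 : Module.rank K (MvPolynomial σ K) = #(σ →₀ ℕ) :=
    ((MvPolynomial.basisMonomials σ K).mk_eq_rank'').symm
  rw [h3, Cardinal.mk_finsupp_nat] at h2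
  exact (h1.trans h2).not_gt hσ

variable {A : Type u} [CommRing A] [Algebra K A] {σ : Type u} [Nonempty σ] (hσ : max #σ ℵ₀ < #K)
  (g : MvPolynomial σ K →ₐ[K] A) (hg : Function.Surjective g)

include hσ hg in
theorem isAlgebraic_of_field_quotient {L : Type u} [Field L] [Algebra K L] (h : A →ₐ[K] L)
    (hh : Function.Surjective h) : Algebra.IsAlgebraic K L :=
  isAlgebraic_of_surjective hσ (h.comp g) (hh.comp hg)

include hσ hg in
theorem isJacobsonRing : IsJacobsonRing A := by
  rw [isJacobsonRing_iff_prime_eq]
  intro P hP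
  refine le_antisymm (fun f hf => ?_) Ideal.le_jacobson
  by_contra hfP
  let f' : A ⧸ P := Ideal.Quotient.mk P f
  have hf' : f' ≠ 0 := fun h => hfP (Ideal.Quotient.eq_zero_iff_mem.1 h)
  haveI : Nontrivial (Localization.Away f') := (IsLocalization.injective (M := Submonoid.powers f') (Localization.Away f') (powers_le_nonZeroDivisors_of_noZeroDivisors hf')).nontrivial
  obtain ⟨m, hm⟩ := Ideal.exists_maximal (Localization.Away f')
  letI := Ideal.Quotient.field m
  let φ : A →ₐ[K] Localization.Away f' ⧸ m :=
    (Ideal.Quotient.mkₐ K m).comp ((IsScalarTower.toAlgHom K (A ⧸ P) _).comp (Ideal.Quotient.mkₐ K P))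
  let g' : MvPolynomial (Option σ) K →ₐ[K] Localization.Away f' ⧸ m :=
    MvPolynomial.aeval fun o => o.elim (φ f)⁻¹ (fun s => φ (g (MvPolynomial.X s)))
  have hgφ : ∀ a, φ a ∈ g'.range := by
    intro a
    obtain ⟨p, rfl⟩ := hg a
    refine ⟨MvPolynomial.rename Option.some p, ?_⟩
    have : g'.comp (MvPolynomial.rename Option.some) = φ.comp g :=
      MvPolynomial.algHom_ext fun s => by simp [g']
    exact AlgHom.congr_fun this p
  have hφf : φ f ≠ 0 :=
    ((IsLocalization.Away.algebraMap_isUnit f').map (Ideal.Quotient.mk m)).ne_zero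
  have hg' : Function.Surjective g' := by
    intro y
    obtain ⟨y, rfl⟩ := Ideal.Quotient.mk_surjective y
    obtain ⟨n, b, hb⟩ := IsLocalization.Away.surj f' y
    obtain ⟨b, rfl⟩ := Ideal.Quotient.mk_surjective b
    obtain ⟨p, hp⟩ := hgφ b
    refine ⟨p * MvPolynomial.X none ^ n, ?_⟩
    have h1 : Ideal.Quotient.mk m y * φ f ^ n = φ b := by
      have := congrArg (Ideal.Quotient.mk m) hb
      rw [map_mul, map_pow] at this
      exact this
    have hp' : g' p = φ b := hp
    rw [map_mul, map_pow, hp', show g' (MvPolynomial.X none) = (φ f)⁻¹ by simp [g'], inv_pow, ← h1,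
      mul_inv_cancel_right₀ (pow_ne_zero n hφf)]
  have hσ' : max #(Option σ) ℵ₀ < #K := by
    refine lt_of_le_of_lt (max_le ?_ (le_max_right _ _)) hσ
    rw [Cardinal.mk_option]
    exact Cardinal.add_le_of_le (le_max_right _ _) (le_max_left _ _) (one_le_aleph0.trans (le_max_right _ _))
  haveI := isAlgebraic_of_surjective hσ' g' hg'
  haveI : Algebra.IsIntegral K φ.range := Algebra.IsIntegral.of_injective φ.range.val Subtype.val_injective
  have hfld : IsField φ.range := isField_of_isIntegral_of_isField' (Field.toIsField K)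
  let φ' := φ.rangeRestrict
  have hmax : (RingHom.ker φ'.toRingHom).IsMaximal := by
    refine Ideal.Quotient.maximal_of_isField _ (MulEquiv.isField hfld
      (RingHom.quotientKerEquivOfSurjective (f := φ'.toRingHom) φ.rangeRestrict_surjective).toMulEquiv)
  have hle : P ≤ RingHom.ker φ'.toRingHom := fun a ha => by
    rw [RingHom.mem_ker]
    refine Subtype.ext ?_
    show φ a = 0
    simp [φ, Ideal.Quotient.eq_zero_iff_mem.2 ha]
  have := (Ideal.mem_sInf.1 hf) ⟨hle, hmax⟩
  exact hφf (congrArg Subtype.val (RingHom.mem_ker.1 this))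

end Groth.Agent.BigField
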